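import Mathlib
import Cfsg.Agent.H273.O25.Conj
import Cfsg.Agent.H273.O25.Tri

/-!
# S3325 (helper273 for helper323): pieces `PAut` and `PExtO`
-/

set_option autoImplicit false
set_option linter.unusedSectionVars false
set_option linter.unusedVariables false

namespace Cfsg.Agent.H273.O25

open Cfsg Subgroup Matrix QuadraticMap
open Cfsg.Agent.H323.OI
open Cfsg.Agent.LieClassical.OrthCore Cfsg.Agent.LieClassical.OrthTrans Cfsg.Agent.LieClassical.OrthFinite
open Cfsg.Agent.ClassicalGeometry.OrthAut1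

/-- the diagonal form, with coercion `dq c` definitionally -/
def dQ {F : Type} [Field F] {n : ℕ} (c : Fin n → F) : QuadraticForm F (Fin n → F) :=
  (dqF c).copy (dq c) (coe_dqF c).symm

theorem coe_dQ {F : Type} [Field F] {n : ℕ} (c : Fin n → F) : ⇑(dQ c) = dq c := rfl

theorem polar_dQ {F : Type} [Field F] {n : ℕ} (c : Fin n → F) (u v : Fin n → F) :
    polar ⇑(dQ c) u v = 2 * ∑ i, c i * (u i * v i) := by
  rw [coe_dQ, polar, Finset.mul_sum, ← Finset.sum_sub_distrib, ← Finset.sum_sub_distrib]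
  refine Finset.sum_congr rfl fun i _ => ?_
  rw [Pi.add_apply]
  ring

theorem nondeg_dQ {F : Type} [Field F] {n : ℕ} (h2 : (2 : F) ≠ 0) {c : Fin n → F} (hc : ∀ i, c i ≠ 0) :
    Nondeg (dQ c) := by
  intro z hz
  funext i
  have h := hz (Pi.single i 1)
  rw [polar_dQ, Finset.sum_eq_single i (fun j _ hj => by rw [Pi.single_eq_of_ne hj, mul_zero, mul_zero])
    (fun h => absurd (Finset.mem_univ _) h), Pi.single_eq_same, mul_one] at h
  exact (mul_eq_zero.1 ((mul_eq_zero.1 h).resolve_left h2)).resolve_left (hc i)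

theorem two_ne {F : Type} [Field F] [Fintype F] (ho : Odd (Fintype.card F)) : (2 : F) ≠ 0 := by
  intro h
  have h1 : ringChar F = 2 := by
    have h3 : (ringChar F) ∣ 2 := (ringChar.spec F 2).1 (by exact_mod_cast h)
    have h4 : ringChar F ≠ 1 := CharP.ringChar_ne_one
    exact ((Nat.dvd_prime Nat.prime_two).1 h3).resolve_left h4
  have h3 := FiniteField.even_card_of_char_two h1
  rw [Nat.odd_iff] at ho
  omega

theorem Sp.eight_le {F : Type} [Field F] [Fintype F] {n : ℕ} {c : Fin n → F} (h : Sp c) : 8 ≤ n := by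
  obtain ⟨k, hk⟩ := h.odd
  have h4 : Fintype.card F % 4 = 1 ∨ Fintype.card F % 4 = 3 := by omega
  rcases h4 with h4 | h4
  · rcases h.h6.1 h4 with h1 | h1 <;> omega
  · rcases h.h6.2 h4 with h1 | h1 | h1 <;> omega

theorem good_dQ {F : Type} [Field F] [Fintype F] {n : ℕ} {c : Fin n → F} (h : Sp c) : Good (dQ c) :=
  good_of_finite (nondeg_dQ (two_ne h.odd) h.ne) (by
    rw [Module.finrank_fintype_fun_eq_card, Fintype.card_fin]
    have := Sp.eight_le h
    omega)

/-- the automorphism of `PΩ` induced by an automorphism of `Ω` permutes the point stabilisers, unless it is a triality -/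
theorem pt_of_aut {F : Type} [Field F] [Finite F] {ι : Type} [Fintype ι] [DecidableEq ι] {Q : QuadraticForm F (ι → F)}
    (hG : Good Q) (h2 : (2 : F) ≠ 0) (h7 : 7 ≤ Fintype.card ι) (h8 : Fintype.card ι = 8 → ∃ i : F, i * i = -1)
    (γ : MulAut ↥(Omega F ⇑Q)) : AutOrth.Main.Pt hG (AutOrth.Main.tr hG (quotientCenterCongr γ)) := by
  intro x hx hx0
  rcases ClassicalGeometry.OrthAut3.dichotomy hG (by rwa [Module.finrank_fintype_fun_eq_card])
    (AutOrth.Main.tr hG (quotientCenterCongr γ)) hx hx0 with h | ⟨h1, W, hW, h4, h⟩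
  · exact h
  · exfalso
    rw [Module.finrank_fintype_fun_eq_card] at h1
    obtain ⟨i, hi⟩ := h8 h1
    refine no_four hG h2 h1 hi (MulAut.congr (AutOrth.Main.oe hG) γ) _ ?_ hx0 hW h4 h
    intro g
    obtain ⟨g, rfl⟩ := (AutOrth.Main.oe hG).surjective g
    rw [AutOrth.Main.tr_apply]
    have h3 : MulAut.congr (AutOrth.Main.oe hG) γ (AutOrth.Main.oe hG g) = AutOrth.Main.oe hG (γ g) := by
      change AutOrth.Main.oe hG (γ ((AutOrth.Main.oe hG).symm (AutOrth.Main.oe hG g))) = _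
      rw [MulEquiv.symm_apply_apply]
    rw [h3]
    rfl

/-- an automorphism of `Ω(Q)` is conjugation by a semisimilarity, unless it is a triality -/
theorem exists_ss {F : Type} [Field F] [Finite F] {ι : Type} [Fintype ι] [DecidableEq ι] {Q : QuadraticForm F (ι → F)}
    (hG : Good Q) (h2 : (2 : F) ≠ 0) (h7 : 7 ≤ Fintype.card ι) (h8 : Fintype.card ι = 8 → ∃ i : F, i * i = -1)
    (γ : MulAut ↥(Omega F ⇑Q)) : ∃ (σ : F ≃+* F) (μ : F) (T : (ι → F) ≃+ (ι → F)), IsSS ⇑Q ⇑Q σ μ T ∧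
      ∀ g : ↥(Omega F ⇑Q), Rel T g.1 (γ g).1 := by
  obtain ⟨σ, μ, T, hT, h⟩ := AutOrth.Main.exists_of_pt hG h7 _ (pt_of_aut hG h2 h7 h8 γ)
  refine ⟨σ, μ, T, hT, fun g => lift_rel hT (commutator_Omega hG) γ.toMonoidHom (fun g g' hgg => ?_) g⟩
  exact h g g' hgg

/-- **Piece 3a.** -/
theorem pAut : PAut := by
  intro F _ _ n c hS γ
  have h2 := two_ne hS.odd
  refine exists_ss (Q := dQ c) (good_dQ hS) h2 (by rw [Fintype.card_fin]; have := Sp.eight_le hS; omega) ?_ γ
  intro h8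
  rw [Fintype.card_fin] at h8
  have h4 : Fintype.card F % 4 ≠ 3 := by
    intro h3
    rcases hS.h6.2 h3 with h1 | h1 | h1 <;> omega
  obtain ⟨i, hi⟩ := FiniteField.isSquare_neg_one_iff.2 h4
  exact ⟨i, hi.symm⟩

/-- **Piece 3b.** -/
theorem pExtO : PExtO := by
  intro F _ _ n c hS γ
  obtain ⟨σ, μ, T, hT, h⟩ := pAut c hS γ
  exact ⟨conjO hT, fun m => ((rel_iff hT).1 (h m)).symm⟩

end Cfsg.Agent.H273.O25
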